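import Cfsg.Agent.BpRankZero.Seven
import Cfsg.Agent.BpSpor.MBigCo
import Cfsg.Agent.BpSpor.Row.M
import Cfsg.Agent.BpSpor.RowAll
import Cfsg.Agent.MFive.Row
import Cfsg.Agent.S0205
import Cfsg.Agent.FastGrp
import Cfsg.Agent.Prune
set_option linter.all false
prune_inst 0x7f00000000000000000000000000000000000000000000000000000000000000000000000000000000000000000000000000000000000000000000000000000000000000000000000000000000000000003fffffffffffffffffffffffffffbeffbdffffffff
open scoped Cfsg.Agent.FastGrp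

/-!
# S1332: the Monster, `p = 13` (helper80)

* `sq_dvd_cent` : `p²` divides `|C(x)|`, `x` of order `p`, when `p²` divides `|G|`;
* `only_inv` : `z` is the only involution of `C(x) ∩ C(z)`, `x` of order 13;
* `good_two_b` : `Good 13 C(x)` when `x` commutes with a conjugate of `z` (helper62's `good_of_one`);
* `bps_of (h : TwoA)` : `BpS 13 Spor.Monster`, `TwoA` : the elements of order 13 commuting with a `2A`-involution and with no
  conjugate of `z`.
-/

set_option autoImplicit false
set_option maxRecDepth 100000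

namespace Cfsg.Agent.BpMon.Thirteen

open Cfsg Cfsg.Spor Cfsg.Agent.BpTab Cfsg.Agent.LeechMat.Core Cfsg.Agent.MonsterX.KSide Cfsg.Agent.MonsterX.KLift
open Cfsg.Agent.MonsterX.FrameKS Cfsg.Agent.PreUniq
open Cfsg.Agent.MonsterU.Lam2 Cfsg.Agent.MonsterU.TwoCls Cfsg.Agent.MonsterU.TwoQ
open Cfsg.Agent.MonsterU.Ch
open Cfsg.Agent.CoOneType.ClosingFacts
open Cfsg.Agent.LThreeBX.NoSeven (exists_odd comm_of_mk)
open Cfsg.Agent.LThreeMB (fr zD)
open Cfsg.Agent.BpSpor (bpS_of_inner center_eq_bot_of_card)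
open Subgroup (centralizer zpowers mem_centralizer_singleton_iff)

universe u

section

variable {G : Type u} [Group G] [Finite G]

/-- `p²` divides the order of the centralizer of an element of order `p` -/
theorem sq_dvd_cent {p : ℕ} (hp : p.Prime) (h : p ^ 2 ∣ Nat.card G) {x : G} (hx : orderOf x = p) :
    p ^ 2 ∣ Nat.card ↥(centralizer ({x} : Set G)) := by
  have : Fact p.Prime := ⟨hp⟩
  have h1 : Nat.card ↥(zpowers x) = p ^ 1 := by rw [Nat.card_zpowers, hx, pow_one]
  obtain ⟨K, hK, hle⟩ := Sylow.exists_subgroup_card_pow_prime_le p h (zpowers x) h1 (by norm_num)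
  rw [← hK]
  refine Subgroup.card_dvd_of_le fun k hk => mem_centralizer_singleton_iff.2 ?_
  have hc := (IsPGroup.isMulCommutative_of_card_eq_prime_sq hK).is_comm.comm (⟨k, hk⟩ : ↥K)
    ⟨x, hle (Subgroup.mem_zpowers x)⟩
  exact congrArg Subtype.val hc

end

section KS

variable {G : Type u} {V P W : Type*} [Group G] [AddCommGroup V] [Module ℚ V]
  [DistribMulAction G V] [SMulCommClass G ℚ V] [Group P] [AddCommGroup W] [Module ℚ W]
  {M : KS G V P W} {θ : leechLattice → P}

theorem fr_pi (L : Lift M θ) (hc : LThreeMB.KChart.Cent M) {x : centralizer ({M.z} : Set G)} (hx : orderOf x = 13) :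
    fr (LThreeMB.KChart.pi hc x) = 1 :=
  BpSpor.MBigCo.fr_thirteen (MFive.orderOf_pi (LThreeMB.KChart.chart L hc) (by norm_num) (by decide) hx)

/-- **`z` is the only involution of `C(x) ∩ C(z)`**, `x` of order 13. -/
theorem only_inv (L : Lift M θ) (hc : LThreeMB.KChart.Cent M) {x t : centralizer ({M.z} : Set G)}
    (hx : orderOf x = 13) (htt : t * t = 1) (ht1 : t ≠ 1) (hxt : x * t = t * x) : (t : G) = M.z := by
  have h := LThreeMB.KChart.chart L hc
  have hx13 : x ^ 13 = 1 := by rw [← hx, pow_orderOf_eq_one]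
  have hxt' : (x : G) * t = t * x := congrArg Subtype.val hxt
  have hQ : LThreeMB.KChart.pi hc t = 1 → (t : G) = M.z := fun h1 =>
    (MonGen.free_of_fr h (by decide) hx13 (fr_pi L hc hx) ((h.pi_eq_one t).1 h1) hxt').resolve_left fun h2 =>
      ht1 (Subtype.ext h2)
  obtain ⟨a, ha, ha13, hao⟩ := BpSpor.MBigCo.exists_lift_thirteen (MFive.orderOf_pi h (by norm_num) (by decide) hx)
  have htK : (t : G) ∈ M.K := hc t (mem_centralizer_singleton_iff.1 t.2)
  obtain ⟨A, hA⟩ := ind_exists htK
  have hA' : LThreeMB.KChart.pi hc t = mk A := LThreeMB.KChart.pi_eq hc hA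
  have hAA : A * A = 1 := by
    have h1 : mk (A * A) = 1 := by rw [mk_mul, ← hA', ← map_mul, htt, map_one]
    rcases (mk_eq_one _).1 h1 with h2 | h2
    · exact h2
    · exact absurd (congrArg Subtype.val htt) (Cfsg.Agent.MonsterU.TwoB0.two_b0 L htK hA h2)
  have hcm : a * A = A * a := comm_of_mk (n := 13) (by decide) ha13 (by rw [ha, ← hA', ← map_mul, hxt, map_mul])
  exact hQ (by rw [hA']; exact BpSpor.MBigCo.eq_neg hao hAA hcm)

theorem only_zD (L : Lift M θ) (hc : LThreeMB.KChart.Cent M) {x : centralizer ({M.z} : Set G)} (hx : orderOf x = 13)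
    (s : ↥(centralizer ({(x : G)} : Set G))) (hss : s * s = 1) (hsz : s * zD x = zD x * s) : s = 1 ∨ s = zD x := by
  by_cases hs1 : s = 1
  · exact Or.inl hs1
  · right
    have hsz' : (s : G) * M.z = M.z * s := congrArg Subtype.val hsz
    apply Subtype.ext
    refine only_inv L hc (x := x) (t := ⟨s, mem_centralizer_singleton_iff.2 hsz'⟩) hx ?_ ?_ ?_
    · have hss' : (s : G) * s = 1 := congrArg Subtype.val hss
      exact Subtype.ext hss'
    · intro h3
      have h4 : (s : G) = 1 := congrArg Subtype.val h3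
      exact hs1 (Subtype.ext h4)
    · exact Subtype.ext (mem_centralizer_singleton_iff.1 s.2).symm

theorem card_zD_dvd [Finite G] (L : Lift M θ) (hc : LThreeMB.KChart.Cent M) (x : centralizer ({M.z} : Set G)) :
    Nat.card ↥(centralizer ({zD x} : Set ↥(centralizer ({(x : G)} : Set G)))) ∣ 2 ^ 25 * Nat.card Co1 := by
  refine Dvd.dvd.trans ?_ (BpRankZero.Seven.card_cz (LThreeMB.KChart.chart L hc))
  refine Subgroup.card_dvd_of_injective
    (((centralizer ({(x : G)} : Set G)).subtype.comp (centralizer ({zD x} :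
      Set ↥(centralizer ({(x : G)} : Set G)))).subtype).codRestrict (centralizer ({M.z} : Set G)) ?_) ?_
  · intro g
    rw [mem_centralizer_singleton_iff]
    exact congrArg Subtype.val (mem_centralizer_singleton_iff.1 g.2)
  · intro g k hgk
    apply Subtype.ext
    apply Subtype.ext
    exact congrArg (fun u : ↥(centralizer ({M.z} : Set G)) => (u : G)) hgk

/-- **`x` commutes with `z`**: `Good 13 C(x)`. -/
theorem good_two_b [Finite G] (L : Lift M θ) (hc : LThreeMB.KChart.Cent M) (h13 : 13 ^ 2 ∣ Nat.card G)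
    {x : centralizer ({M.z} : Set G)} (hx : orderOf x = 13) : Good 13 ↥(centralizer ({(x : G)} : Set G)) := by
  refine BpRankZero.good_of_one (fun K _ _ h => Cfsg.Agent.S0205.result h) (by norm_num)
    (MFive.orderOf_zD (LThreeMB.KChart.chart L hc) x) (only_zD L hc hx) (k := 2)
    (sq_dvd_cent (by norm_num) h13 (by rw [Subgroup.orderOf_coe, hx])) ?_
  intro h7
  have h1 := h7.trans (card_zD_dvd L hc x)
  rw [Cfsg.Agent.MonsterU.CoFrameF.card_Co1] at h1
  norm_num at h1

end KS

section Row

open Cfsg.Agent.MonsterX Cfsg.Agent.MonsterX.InstData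

/-- the elements of order 13 commuting with a `2A`-involution and with no conjugate of `z` -/
def TwoA : Prop :=
  ∀ x t : ↥InstData.M.G, orderOf x = 13 →
    (∃ g, g * Cfsg.Agent.MonsterX.MainPack.tG KDone.mGroup KDone.mRep * g⁻¹ = t) → x * t = t * x →
    (∀ g : ↥InstData.M.G, (g * KDone.K.z * g⁻¹) * x ≠ x * (g * KDone.K.z * g⁻¹)) →
    Good 13 ↥(centralizer ({x} : Set ↥InstData.M.G))

theorem sq_dvd_model : 13 ^ 2 ∣ Nat.card ↥InstData.M.G := by
  rw [Cfsg.Agent.MonsterP.EquivOf.isM_model.2]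
  norm_num

/-- every `x` of order 13 of the model -/
theorem good_model (h : TwoA) {x : ↥InstData.M.G} (hx : orderOf x = 13) :
    Good 13 ↥(centralizer ({x} : Set ↥InstData.M.G)) := by
  have := MFive.Row.finite_model
  have hpf : Fact (Nat.Prime 13) := ⟨by norm_num⟩
  by_cases ho : Odd (Nat.card ↥(centralizer ({x} : Set ↥InstData.M.G)))
  · exact good_of_solvable (Cfsg.Agent.S0205.result ho)
  by_cases hex : ∃ g : ↥InstData.M.G, (g * KDone.K.z * g⁻¹) * x = x * (g * KDone.K.z * g⁻¹)
  · obtain ⟨g, hg⟩ := hex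
    have h1 : (g⁻¹ * x * g) * KDone.K.z = KDone.K.z * (g⁻¹ * x * g) := by
      calc (g⁻¹ * x * g) * KDone.K.z = g⁻¹ * (x * (g * KDone.K.z * g⁻¹)) * g := by group
        _ = g⁻¹ * ((g * KDone.K.z * g⁻¹) * x) * g := by rw [hg]
        _ = KDone.K.z * (g⁻¹ * x * g) := by group
    let x' : centralizer ({KDone.K.z} : Set ↥InstData.M.G) := ⟨g⁻¹ * x * g, mem_centralizer_singleton_iff.2 h1⟩
    have h3 : g * (x' : ↥InstData.M.G) * g⁻¹ = x := by
      change g * (g⁻¹ * x * g) * g⁻¹ = x
      group
    have hx' : orderOf x' = 13 := by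
      rw [← Subgroup.orderOf_coe, ← hx, ← h3]
      exact (orderOf_injective (MulAut.conj g).toMonoidHom (MulAut.conj g).injective (x' : ↥InstData.M.G)).symm
    obtain ⟨⟨e⟩, -⟩ := Cfsg.Agent.LThreeMB.exists_XX_equiv h3
    exact (good_two_b KDone.lft MFive.Row.hc sq_dvd_model hx').congr e
  · push Not at hex
    have h2 : 2 ∣ Nat.card ↥(centralizer ({x} : Set ↥InstData.M.G)) := (Nat.not_odd_iff_even.1 ho).two_dvd
    have : Fact (Nat.Prime 2) := ⟨Nat.prime_two⟩
    obtain ⟨t, ht⟩ := exists_prime_orderOf_dvd_card' 2 h2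
    rw [← Subgroup.orderOf_coe] at ht
    have htx : x * (t : ↥InstData.M.G) = t * x := (mem_centralizer_singleton_iff.1 t.2).symm
    have htt : (t : ↥InstData.M.G) * t = 1 := by
      rw [← pow_two, ← ht, pow_orderOf_eq_one]
    have ht1 : (t : ↥InstData.M.G) ≠ 1 := by
      intro h1
      rw [h1, orderOf_one] at ht
      norm_num at ht
    rcases MFive.Row.two _ htt ht1 with ⟨g, hg⟩ | h5
    · exact absurd (by rw [hg]; exact htx.symm) (hex g)
    · exact h x t hx h5 htx hex

/-- **Row `M`, `p = 13`.** -/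
theorem bps_of (h : TwoA) : BpS 13 Spor.Monster := by
  have h7 : Fact (Nat.Prime 13) := ⟨by norm_num⟩
  have hfin : Finite Spor.Monster := Nat.finite_of_card_ne_zero (by
    rw [Cfsg.Agent.MonsterP.Equiv.isM.2]
    norm_num)
  obtain ⟨f⟩ := Cfsg.Agent.MonsterP.Equiv.equiv
  refine bpS_of_inner (center_eq_bot_of_card Cfsg.Agent.MonsterP.Equiv.isM.1 (by
    rw [Cfsg.Agent.MonsterP.Equiv.isM.2]; norm_num)) (BpSpor.Inn.m ⟨MulEquiv.refl _⟩ 13 (by norm_num) (by norm_num))
    fun g hg => ?_
  have h1 : orderOf (f g) = 13 := by rw [MulEquiv.orderOf_eq, hg]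
  have e : ↥(centralizer ({g} : Set Spor.Monster)) ≃* ↥(centralizer ({f g} : Set ↥InstData.M.G)) := by
    refine ((centralizer ({g} : Set Spor.Monster)).equivMapOfInjective f.toMonoidHom f.injective).trans
      (MulEquiv.subgroupCongr ?_)
    ext y
    rw [Subgroup.mem_map, mem_centralizer_singleton_iff]
    constructor
    · rintro ⟨c, hc, rfl⟩
      rw [mem_centralizer_singleton_iff] at hc
      change f c * f g = f g * f c
      rw [← map_mul, hc, map_mul]
    · intro hy
      refine ⟨f.symm y, ?_, f.apply_symm_apply y⟩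
      rw [mem_centralizer_singleton_iff]
      apply f.injective
      rw [map_mul, map_mul, f.apply_symm_apply, hy]
  have := MFive.Row.finite_model
  exact (good_model h h1).congr e.symm

end Row

end Cfsg.Agent.BpMon.Thirteen
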